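import Cfsg.Agent.H660.PQ.RootDefs
import Cfsg.Agent.ChevalleyStructure.PairOrbit
import Cfsg.Agent.ChevalleyStructure.W0E8

/-!
# S4981, task E8PAR: the zeros of a functional on the roots of `E8` modulo `p` (helper881)

If every nonzero value is taken by at most three roots and some root is a zero, then the number `z` of zeros satisfies
`z = 2 mod 4` and `z ≤ 114`.
-/

set_option autoImplicit false
set_option maxRecDepth 100000

namespace Cfsg.Agent.H881.PQ

open Cfsg.Lie Cfsg.Agent.ChevalleyStructure Cfsg.Agent.ChevalleyStructure.RootVec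
open Cfsg.Agent.ChevalleyStructure.RootVecTab Cfsg.Agent.ChevalleyStructure.W0Core
open Cfsg.Agent.ChevalleyStructure.PairOrbit Cfsg.Agent.H660.PQ

/-- the reflection tables -/
abbrev T : ℕ → ℕ := W0E8.tabE8

theorem invol8 : involOK T 8 240 = true := by decide +kernel

theorem invol7 : involOK T 7 240 = true := by decide +kernel

theorem reps8 : repsR T 8 240 [239] = true := by decide +kernel

theorem reps7 : repsR T 7 240 [0, 119, 226, 238, 239] = true := by decide +kernel

theorem fix239 : ∀ i < 7, look (T i) 239 = 239 := by decide +kernel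

theorem rt_look {i s : ℕ} (hi : i < 8) (hs : s < 240) : look (T i) s < 240 ∧
    ∀ j, rt chevE8 (look (T i) s) j = rt chevE8 s j - chevE8.cartan i s * (if j = i then 1 else 0) := by
  have h := reflectRoot_rt checked_E8 (i := i) (s := s) hi hs
  rwa [W0E8.tabE8_ok i hi s hs] at h

section

variable {p : ℕ}

theorem lin_look {a : ℕ → ZMod p} (ha : Lin chevE8 a) {i : ℕ} (hi : i < 8) :
    Lin chevE8 (fun s => a (look (T i) s)) := by
  obtain ⟨m, hm⟩ := ha
  refine ⟨fun j => m j - ((chevE8.cartan i (chevE8.simple j) : ℤ) : ZMod p) * m i, fun s hs => ?_⟩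
  obtain ⟨h1, h2⟩ := rt_look hi hs
  show a (look (T i) s) = _
  rw [hm _ h1]
  have h3 := cartan_eq_sum checked_E8 hi hs
  have h4 : ((chevE8.cartan i s : ℤ) : ZMod p) = ∑ j ∈ Finset.range chevE8.rank,
      ((rt chevE8 s j : ℤ) : ZMod p) * ((chevE8.cartan i (chevE8.simple j) : ℤ) : ZMod p) := by
    rw [h3]; push_cast; rfl
  have h5 : ∑ j ∈ Finset.range chevE8.rank, ((rt chevE8 (look (T i) s) j : ℤ) : ZMod p) * m j =
      ∑ j ∈ Finset.range chevE8.rank, ((rt chevE8 s j : ℤ) : ZMod p) * m j -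
        ((chevE8.cartan i s : ℤ) : ZMod p) * m i := by
    have h6 : ∑ j ∈ Finset.range chevE8.rank, (if j = i then ((chevE8.cartan i s : ℤ) : ZMod p) * m j else 0) =
        ((chevE8.cartan i s : ℤ) : ZMod p) * m i := by
      rw [Finset.sum_ite_eq' (Finset.range chevE8.rank) i (fun j => ((chevE8.cartan i s : ℤ) : ZMod p) * m j),
        if_pos (show i ∈ Finset.range chevE8.rank from Finset.mem_range.2 hi)]
    rw [← h6, ← Finset.sum_sub_distrib]
    refine Finset.sum_congr rfl fun j _ => ?_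
    rw [h2]
    split_ifs
    · push_cast; ring
    · push_cast; ring
  rw [h5, h4, Finset.sum_mul, ← Finset.sum_sub_distrib]
  refine Finset.sum_congr rfl fun j _ => ?_
  ring

theorem cnt_look (a : ℕ → ZMod p) {i : ℕ} (hi : i < 8) (b : ZMod p) :
    cnt chevE8 (fun s => a (look (T i) s)) b = cnt chevE8 a b := by
  unfold cnt
  refine Finset.card_nbij' (look (T i)) (look (T i)) ?_ ?_ ?_ ?_
  · intro s hs
    simp only [Finset.coe_filter, Finset.mem_range, Set.mem_ofPred_eq] at hs ⊢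
    exact ⟨(rt_look hi hs.1).1, hs.2⟩
  · intro s hs
    simp only [Finset.coe_filter, Finset.mem_range, Set.mem_ofPred_eq] at hs ⊢
    refine ⟨(rt_look hi hs.1).1, ?_⟩
    rw [(involOK_spec invol8 hi hs.1).2.1]
    exact hs.2
  · intro s hs
    simp only [Finset.coe_filter, Finset.mem_range, Set.mem_ofPred_eq] at hs
    exact (involOK_spec invol8 hi hs.1).2.1
  · intro s hs
    simp only [Finset.coe_filter, Finset.mem_range, Set.mem_ofPred_eq] at hs
    exact (involOK_spec invol8 hi hs.1).2.1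

/-- integral combinations of roots -/
theorem lin_comb {a : ℕ → ZMod p} {m : ℕ → ZMod p}
    (hm : ∀ s < chevE8.nroots, a s = ∑ j ∈ Finset.range chevE8.rank, ((rt chevE8 s j : ℤ) : ZMod p) * m j) :
    ∀ l : List (ℤ × ℕ), (∀ x ∈ l, x.2 < 240) → (l.map fun x => ((x.1 : ℤ) : ZMod p) * a x.2).sum =
      ∑ j ∈ Finset.range chevE8.rank, (((l.map fun x => x.1 * rt chevE8 x.2 j).sum : ℤ) : ZMod p) * m j
  | [], _ => by simp
  | x :: l, h => by
    rw [List.map_cons, List.sum_cons, lin_comb hm l fun y hy => h y (List.mem_cons_of_mem _ hy),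
      hm x.2 (h x List.mem_cons_self), Finset.mul_sum, ← Finset.sum_add_distrib]
    refine Finset.sum_congr rfl fun j _ => ?_
    rw [List.map_cons, List.sum_cons]
    push_cast
    ring

/-- the quadruples `r, σ_θ r, σ_t r, σ_t σ_θ r` -/
def quads : List (ℕ × ℕ × ℕ × ℕ) := [(120, 1, 227, 78), (122, 2, 228, 79), (125, 3, 229, 81), (129, 4, 230, 84),
  (134, 5, 231, 88), (140, 6, 232, 93), (146, 7, 233, 99), (151, 8, 234, 105), (155, 9, 235, 110)]

theorem quads_ok : ∀ x ∈ quads, ((x.1 < 240 ∧ x.2.1 < 240 ∧ x.2.2.1 < 240 ∧ x.2.2.2 < 240) ∧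
    (x.1 ≠ x.2.1 ∧ x.1 ≠ x.2.2.1 ∧ x.1 ≠ x.2.2.2 ∧ x.2.1 ≠ x.2.2.1 ∧ x.2.1 ≠ x.2.2.2 ∧ x.2.2.1 ≠ x.2.2.2)) ∧
    ∀ j < 8, ((rt chevE8 x.1 j - rt chevE8 x.2.1 j = rt chevE8 239 j ∧
      rt chevE8 x.2.2.1 j - rt chevE8 x.2.2.2 j = rt chevE8 239 j) ∧
      rt chevE8 x.2.2.1 j - rt chevE8 x.1 j = rt chevE8 226 j) := by
  decide +kernel

/-- `2 α_j` as combinations of the roots of `quads` -/
def rel : ℕ → List (ℤ × ℕ)
  | 0 => [(1, 120), (1, 122), (1, 229), (-1, 140), (-1, 151), (-1, 155)]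
  | 1 => [(2, 146), (-2, 134)]
  | 2 => [(2, 140), (-2, 134)]
  | 3 => [(2, 134), (-2, 129)]
  | 4 => [(2, 129), (-2, 125)]
  | 5 => [(2, 125), (-2, 122)]
  | 6 => [(2, 122), (-2, 120)]
  | _ => [(2, 120)]

theorem rel_ok : ∀ i < 8, (∀ x ∈ rel i, x.2 ∈ [120, 122, 125, 129, 134, 140, 146, 151, 155, 229]) ∧
    ∀ j < 8, ((rel i).map fun x => x.1 * rt chevE8 x.2 j).sum = if j = i then 2 else 0 := by
  decide +kernel

theorem lt_of_rel : ∀ x ∈ [120, 122, 125, 129, 134, 140, 146, 151, 155, 229], x < 240 := by decide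

theorem sub_eq {a : ℕ → ZMod p} {m : ℕ → ZMod p}
    (hm : ∀ s < chevE8.nroots, a s = ∑ j ∈ Finset.range chevE8.rank, ((rt chevE8 s j : ℤ) : ZMod p) * m j)
    {x y z : ℕ} (hx : x < 240) (hy : y < 240) (hz : z < 240)
    (h : ∀ j < 8, rt chevE8 x j - rt chevE8 y j = rt chevE8 z j) : a x - a y = a z := by
  rw [hm x hx, hm y hy, hm z hz, ← Finset.sum_sub_distrib]
  refine Finset.sum_congr rfl fun j hj => ?_
  rw [← h j (Finset.mem_range.1 hj)]
  push_cast
  ring

/-- two orthogonal zeros: the base case -/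
theorem base [Fact p.Prime] (hp : 2 < p) {a : ℕ → ZMod p} (ha : Lin chevE8 a)
    (h3 : ∀ b : ZMod p, b ≠ 0 → cnt chevE8 a b ≤ 3) (h1 : a 239 = 0) (h2 : a 226 = 0) : ∀ s < 240, a s = 0 := by
  obtain ⟨m, hm⟩ := ha
  have hq : ∀ x ∈ quads, a x.1 = 0 ∧ a x.2.2.1 = 0 := by
    intro x hx
    obtain ⟨⟨⟨b1, b2, b3, b4⟩, c1, c2, c3, c4, c5, c6⟩, hj⟩ := quads_ok x hx
    have e1 := sub_eq hm b1 b2 (by norm_num) fun j hj' => (hj j hj').1.1
    have e2 := sub_eq hm b3 b4 (by norm_num) fun j hj' => (hj j hj').1.2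
    have e3 := sub_eq hm b3 b1 (by norm_num) fun j hj' => (hj j hj').2
    rw [h1, sub_eq_zero] at e1 e2
    rw [h2, sub_eq_zero] at e3
    suffices h : a x.1 = 0 from ⟨h, e3.trans h⟩
    by_contra hne
    have hsub : ({x.1, x.2.1, x.2.2.1, x.2.2.2} : Finset ℕ) ⊆ (Finset.range chevE8.nroots).filter fun s => a s = a x.1 := by
      intro s hs
      rw [Finset.mem_filter, Finset.mem_range]
      simp only [Finset.mem_insert, Finset.mem_singleton] at hs
      rcases hs with rfl | rfl | rfl | rfl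
      · exact ⟨b1, rfl⟩
      · exact ⟨b2, e1.symm⟩
      · exact ⟨b3, e3⟩
      · exact ⟨b4, e2.symm.trans e3⟩
    have hc := Finset.card_le_card hsub
    rw [Finset.card_insert_of_notMem (by simp [c1, c2, c3]), Finset.card_insert_of_notMem (by simp [c4, c5]),
      Finset.card_insert_of_notMem (by simp [c6]), Finset.card_singleton] at hc
    have := h3 _ hne
    unfold cnt at this
    omega
  have hz : ∀ x ∈ [120, 122, 125, 129, 134, 140, 146, 151, 155, 229], a x = 0 := by
    intro x hx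
    simp only [List.mem_cons, List.not_mem_nil, or_false] at hx
    rcases hx with rfl | rfl | rfl | rfl | rfl | rfl | rfl | rfl | rfl | rfl
    · exact (hq (120, 1, 227, 78) (by decide)).1
    · exact (hq (122, 2, 228, 79) (by decide)).1
    · exact (hq (125, 3, 229, 81) (by decide)).1
    · exact (hq (129, 4, 230, 84) (by decide)).1
    · exact (hq (134, 5, 231, 88) (by decide)).1
    · exact (hq (140, 6, 232, 93) (by decide)).1
    · exact (hq (146, 7, 233, 99) (by decide)).1
    · exact (hq (151, 8, 234, 105) (by decide)).1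
    · exact (hq (155, 9, 235, 110) (by decide)).1
    · exact (hq (125, 3, 229, 81) (by decide)).2
  have hmz : ∀ i < 8, m i = 0 := by
    intro i hi
    obtain ⟨r1, r2⟩ := rel_ok i hi
    have h4 := lin_comb hm (rel i) fun x hx => lt_of_rel _ (r1 x hx)
    have h5 : ((rel i).map fun x => ((x.1 : ℤ) : ZMod p) * a x.2).sum = 0 := by
      apply List.sum_eq_zero
      intro y hy
      obtain ⟨x, hx, rfl⟩ := List.mem_map.1 hy
      rw [hz _ (r1 x hx), mul_zero]
    have h6 : ∑ j ∈ Finset.range chevE8.rank, ((((rel i).map fun x => x.1 * rt chevE8 x.2 j).sum : ℤ) : ZMod p) * m j =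
        2 * m i := by
      have h7 : ∀ j ∈ Finset.range chevE8.rank, ((((rel i).map fun x => x.1 * rt chevE8 x.2 j).sum : ℤ) : ZMod p) * m j =
          if j = i then 2 * m j else 0 := by
        intro j hj
        rw [r2 j (Finset.mem_range.1 hj)]
        split_ifs <;> push_cast <;> ring
      rw [Finset.sum_congr rfl h7, Finset.sum_ite_eq' (Finset.range chevE8.rank) i (fun j => 2 * m j),
        if_pos (show i ∈ Finset.range chevE8.rank from Finset.mem_range.2 hi)]
    rw [h5, h6] at h4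
    have h2' : (2 : ZMod p) ≠ 0 := by
      intro h
      have h8 : ((2 : ℕ) : ZMod p) = 0 := by exact_mod_cast h
      rw [ZMod.natCast_eq_zero_iff] at h8
      exact absurd (Nat.le_of_dvd (by norm_num) h8) (by omega)
    exact (mul_eq_zero.1 h4.symm).resolve_left h2'
  intro s hs
  rw [hm s hs]
  refine Finset.sum_eq_zero fun j hj => ?_
  rw [hmz j (Finset.mem_range.1 hj), mul_zero]

theorem reps_deg : ∀ r ∈ [0, 119, 226, 238, 239], rt chevE8 r 7 = 0 → r = 226 := by decide +kernel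

/-- two orthogonal zeros -/
theorem orth [Fact p.Prime] (hp : 2 < p) : ∀ r < 240, rt chevE8 r 7 = 0 → ∀ a : ℕ → ZMod p, Lin chevE8 a →
    (∀ b : ZMod p, b ≠ 0 → cnt chevE8 a b ≤ 3) → a 239 = 0 → a r = 0 → ∀ s < 240, a s = 0 := by
  refine all_roots invol7 reps7 (fun r => rt chevE8 r 7 = 0 → ∀ a : ℕ → ZMod p, Lin chevE8 a →
    (∀ b : ZMod p, b ≠ 0 → cnt chevE8 a b ≤ 3) → a 239 = 0 → a r = 0 → ∀ s < 240, a s = 0) ?_ ?_
  · intro i hi r hr h hdeg a ha h3 h1 h2 s hs
    have hi' : i < 8 := by omega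
    have h4 := h (by
      rw [(rt_look hi' hr).2 7, if_neg (by omega), mul_zero, sub_zero] at hdeg
      exact hdeg) (fun s => a (look (T i) s)) (lin_look ha hi') (fun b hb => by rw [cnt_look a hi' b]; exact h3 b hb)
      (by rw [fix239 i hi]; exact h1) h2 (look (T i) s) (rt_look hi' hs).1
    rw [(involOK_spec invol8 hi' hs).2.1] at h4
    exact h4
  · intro r hr hdeg a ha h3 h1 h2
    rw [reps_deg r hr hdeg] at h2
    exact base hp ha h3 h1 h2

/-! ### counting -/

theorem deg_facts : ∀ r < 240, (rt chevE8 r 7 = 0 ∨ rt chevE8 r 7 = 1 ∨ rt chevE8 r 7 = -1 ∨ r = 0 ∨ r = 239) := by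
  decide +kernel

theorem deg_ends : rt chevE8 0 7 = -2 ∧ rt chevE8 239 7 = 2 := by decide +kernel

theorem card_deg : ((Finset.range 240).filter fun r => rt chevE8 r 7 ≠ 0).card = 114 := by decide +kernel

/-- the index of `θ - r` for the roots `r` with `⟨r, θ⟩ = 1` -/
def sig : List ℕ := [0, 0, 0, 0, 0, 0, 0, 0, 0, 0, 0, 0, 0, 0, 0, 0, 0, 0, 0, 0, 0, 0, 0, 0,
  0, 0, 0, 0, 0, 0, 0, 0, 0, 0, 0, 0, 0, 0, 0, 0, 0, 0, 0, 0, 0, 0, 0, 0,
  0, 0, 0, 0, 0, 0, 0, 0, 0, 0, 0, 0, 0, 0, 0, 0, 0, 0, 0, 0, 0, 0, 0, 0,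
  0, 0, 0, 0, 0, 0, 0, 0, 0, 0, 0, 0, 0, 0, 0, 0, 0, 0, 0, 0, 0, 0, 0, 0,
  0, 0, 0, 0, 0, 0, 0, 0, 0, 0, 0, 0, 0, 0, 0, 0, 0, 0, 0, 0, 0, 0, 0, 0,
  238, 0, 237, 0, 0, 236, 0, 0, 0, 235, 0, 0, 0, 0, 234, 0, 0, 0, 0, 0, 233, 0, 0, 0,
  0, 0, 232, 0, 0, 0, 0, 231, 0, 0, 0, 230, 0, 0, 229, 0, 228, 227, 0, 0, 0, 0, 0, 0,
  225, 0, 0, 0, 0, 224, 0, 0, 0, 223, 0, 0, 222, 0, 221, 220, 0, 0, 0, 218, 0, 0, 217, 0,
  216, 215, 0, 0, 213, 0, 212, 211, 0, 209, 208, 206, 0, 0, 203, 0, 202, 201, 0, 199, 198, 196, 0, 193,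
  192, 190, 187, 0, 183, 182, 180, 177, 173, 168, 0, 161, 160, 158, 155, 151, 146, 140, 134, 129, 125, 122, 120, 0]

theorem sig_ok : ∀ r < 240, rt chevE8 r 7 = 1 → ((sig.getD r 0 < 240 ∧ sig.getD (sig.getD r 0) 0 = r) ∧
    sig.getD r 0 ≠ r) ∧ ∀ j < 8, rt chevE8 239 j - rt chevE8 r j = rt chevE8 (sig.getD r 0) j := by
  decide +kernel

theorem neg_rt : ∀ r < 240, ∀ j < 8, rt chevE8 (239 - r) j = - rt chevE8 r j := by decide +kernel

theorem count [Fact p.Prime] (hp : 2 < p) {a : ℕ → ZMod p} (ha : Lin chevE8 a)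
    (h3 : ∀ b : ZMod p, b ≠ 0 → cnt chevE8 a b ≤ 3) (h1 : a 239 = 0) (hne : ∃ r < 240, a r ≠ 0) :
    cnt chevE8 a 0 % 4 = 2 ∧ cnt chevE8 a 0 ≤ 114 := by
  have hdeg : ∀ r < 240, a r = 0 → rt chevE8 r 7 ≠ 0 := by
    intro r hr har h0
    obtain ⟨s, hs, hs'⟩ := hne
    exact hs' (orth hp r hr h0 a ha h3 h1 har s hs)
  obtain ⟨m, hm⟩ := ha
  set Z := (Finset.range 240).filter fun s => a s = 0 with hZ
  have hcnt : cnt chevE8 a 0 = Z.card := rfl
  rw [hcnt]
  have hneg : ∀ r < 240, a (239 - r) = - a r := by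
    intro r hr
    have h4 : 239 - r < chevE8.nroots := by show 239 - r < 240; omega
    rw [hm r hr, hm (239 - r) h4, ← Finset.sum_neg_distrib]
    refine Finset.sum_congr rfl fun j hj => ?_
    rw [neg_rt r hr j (Finset.mem_range.1 hj)]
    push_cast; ring
  constructor
  · -- decomposition
    have hdec : Z = (({0, 239} : Finset ℕ) ∪ Z.filter fun r => rt chevE8 r 7 = 1) ∪ Z.filter fun r => rt chevE8 r 7 = -1 := by
      ext r
      constructor
      · intro hr
        have hr' := Finset.mem_filter.1 hr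
        have hr1 : r < 240 := Finset.mem_range.1 hr'.1
        rcases deg_facts r hr1 with h | h | h | h | h
        · exact absurd h (hdeg r hr1 hr'.2)
        · exact Finset.mem_union_left _ (Finset.mem_union_right _ (Finset.mem_filter.2 ⟨hr, h⟩))
        · exact Finset.mem_union_right _ (Finset.mem_filter.2 ⟨hr, h⟩)
        · exact Finset.mem_union_left _ (Finset.mem_union_left _ (by simp [h]))
        · exact Finset.mem_union_left _ (Finset.mem_union_left _ (by simp [h]))
      · intro hr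
        rcases Finset.mem_union.1 hr with hr | hr
        · rcases Finset.mem_union.1 hr with hr | hr
          · rw [Finset.mem_insert, Finset.mem_singleton] at hr
            rcases hr with rfl | rfl
            · have := hneg 239 (by norm_num)
              rw [h1, neg_zero] at this
              exact Finset.mem_filter.2 ⟨Finset.mem_range.2 (by norm_num), this⟩
            · exact Finset.mem_filter.2 ⟨Finset.mem_range.2 (by norm_num), h1⟩
          · exact (Finset.mem_filter.1 hr).1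
        · exact (Finset.mem_filter.1 hr).1
    have hcard1 : (Z.filter fun r => rt chevE8 r 7 = -1).card = (Z.filter fun r => rt chevE8 r 7 = 1).card := by
      refine Finset.card_nbij' (fun r => 239 - r) (fun r => 239 - r) ?_ ?_ ?_ ?_
      · intro r hr
        simp only [Finset.coe_filter, Set.mem_ofPred_eq, hZ, Finset.mem_filter, Finset.mem_range] at hr ⊢
        refine ⟨⟨by omega, ?_⟩, ?_⟩
        · rw [hneg r hr.1.1, hr.1.2, neg_zero]
        · rw [neg_rt r hr.1.1 7 (by norm_num), hr.2, _root_.neg_neg]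
      · intro r hr
        simp only [Finset.coe_filter, Set.mem_ofPred_eq, hZ, Finset.mem_filter, Finset.mem_range] at hr ⊢
        refine ⟨⟨by omega, ?_⟩, ?_⟩
        · rw [hneg r hr.1.1, hr.1.2, neg_zero]
        · rw [neg_rt r hr.1.1 7 (by norm_num), hr.2]
      · intro r hr
        simp only [Finset.coe_filter, Set.mem_ofPred_eq, hZ, Finset.mem_filter, Finset.mem_range] at hr
        show 239 - (239 - r) = r
        omega
      · intro r hr
        simp only [Finset.coe_filter, Set.mem_ofPred_eq, hZ, Finset.mem_filter, Finset.mem_range] at hr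
        show 239 - (239 - r) = r
        omega
    have heven : 2 ∣ (Z.filter fun r => rt chevE8 r 7 = 1).card := by
      rw [← ZMod.natCast_eq_zero_iff, ← nsmul_one, ← Finset.sum_const]
      refine Finset.sum_involution (fun r _ => sig.getD r 0) ?_ ?_ ?_ ?_
      · intro r _
        decide
      · intro r hr _
        have hr' := Finset.mem_filter.1 hr
        have hr1 : r < 240 := Finset.mem_range.1 (Finset.mem_filter.1 hr'.1).1
        exact (sig_ok r hr1 hr'.2).1.2
      · intro r hr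
        have hr' := Finset.mem_filter.1 hr
        have hr1 : r < 240 := Finset.mem_range.1 (Finset.mem_filter.1 hr'.1).1
        have har : a r = 0 := (Finset.mem_filter.1 hr'.1).2
        obtain ⟨⟨⟨h5, h6⟩, h7⟩, h8⟩ := sig_ok r hr1 hr'.2
        have h9 := sub_eq hm (by norm_num : 239 < 240) hr1 h5 h8
        rw [h1, har, sub_zero] at h9
        refine Finset.mem_filter.2 ⟨Finset.mem_filter.2 ⟨Finset.mem_range.2 h5, h9.symm⟩, ?_⟩
        rw [← h8 7 (by norm_num), deg_ends.2, hr'.2]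
        norm_num
      · intro r hr
        have hr' := Finset.mem_filter.1 hr
        have hr1 : r < 240 := Finset.mem_range.1 (Finset.mem_filter.1 hr'.1).1
        exact (sig_ok r hr1 hr'.2).1.1.2
    rw [hdec, Finset.card_union_of_disjoint, Finset.card_union_of_disjoint, hcard1, Finset.card_pair (by norm_num)]
    · omega
    · rw [Finset.disjoint_left]
      intro r hr hr'
      have h5 := (Finset.mem_filter.1 hr').2
      rw [Finset.mem_insert, Finset.mem_singleton] at hr
      rcases hr with rfl | rfl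
      · rw [deg_ends.1] at h5; exact absurd h5 (by norm_num)
      · rw [deg_ends.2] at h5; exact absurd h5 (by norm_num)
    · rw [Finset.disjoint_left]
      intro r hr hr'
      have h5 := (Finset.mem_filter.1 hr').2
      rcases Finset.mem_union.1 hr with hr | hr
      · rw [Finset.mem_insert, Finset.mem_singleton] at hr
        rcases hr with rfl | rfl
        · rw [deg_ends.1] at h5; exact absurd h5 (by norm_num)
        · rw [deg_ends.2] at h5; exact absurd h5 (by norm_num)
      · rw [(Finset.mem_filter.1 hr).2] at h5; exact absurd h5 (by norm_num)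
  · rw [← card_deg]
    apply Finset.card_le_card
    intro r hr
    have hr' := Finset.mem_filter.1 hr
    exact Finset.mem_filter.2 ⟨hr'.1, hdeg r (Finset.mem_range.1 hr'.1) hr'.2⟩

/-- **TASK E8PAR** -/
theorem e8_par [Fact p.Prime] (hp : 7 < p) {a : ℕ → ZMod p} (ha : Lin chevE8 a)
    (h3 : ∀ b : ZMod p, b ≠ 0 → cnt chevE8 a b ≤ 3) {s : ℕ} (hs : s < 240) (has : a s = 0)
    (hne : ∃ r < 240, a r ≠ 0) : cnt chevE8 a 0 % 4 = 2 ∧ cnt chevE8 a 0 ≤ 114 := by
  have key := all_roots invol8 reps8 (fun s => ∀ a : ℕ → ZMod p, Lin chevE8 a →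
    (∀ b : ZMod p, b ≠ 0 → cnt chevE8 a b ≤ 3) → a s = 0 → (∃ r < 240, a r ≠ 0) →
    cnt chevE8 a 0 % 4 = 2 ∧ cnt chevE8 a 0 ≤ 114) ?_ ?_
  · exact key s hs a ha h3 has hne
  · intro i hi r hr h a ha h3 h1 hne
    have h4 := h (fun s => a (look (T i) s)) (lin_look ha hi) (fun b hb => by rw [cnt_look a hi b]; exact h3 b hb) h1
      (by
        obtain ⟨r', hr', hr''⟩ := hne
        refine ⟨look (T i) r', (rt_look hi hr').1, ?_⟩
        rw [(involOK_spec invol8 hi hr').2.1]
        exact hr'')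
    rw [cnt_look a hi 0] at h4
    exact h4
  · intro r hr a ha h3 h1 hne
    rw [List.mem_singleton] at hr
    rw [hr] at h1
    exact count (by omega) ha h3 h1 hne

end

end Cfsg.Agent.H881.PQ
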